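import Groth.Agent.Lib.QAHomeo5.Main
import Groth.Agent.Lib.RelAmple18.Basic
import Groth.Agent.Lib.Ample18.Ample
import Groth.Agent.Lib.RefHull26.Rank

/-!
Ampleness only depends on the invertible module up to homeomorphic closed immersions.
-/

universe u

open CategoryTheory AlgebraicGeometry TopologicalSpace Opposite

set_option autoImplicit false
set_option linter.style.haveILetI false
set_option backward.isDefEq.respectTransparency false
set_option maxHeartbeats 800000

namespace Groth.Agent.AmpleHomeo5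

open Groth.Agent.M2 (IsGenerator pullSec)
open Groth.Agent.Amp
open Groth.Agent.QAHomeo5 (basicOpen_res')

variable {X Z : Scheme.{u}} {M : X.Modules}

local notation "rf" => Groth.Agent.QAHomeo5.res
local notation "rm" => Groth.Agent.M2.res

theorem res_smul' {U V : X.Opens} (h : V ≤ U) (r : Γ(X, U)) (s : Γ(M, U)) :
    rm M h (r • s) = rf h r • rm M h s := Amp.res_smul h r s

theorem coeff_inj {U : X.Opens} {e : Γ(M, U)} (he : IsGenerator e) {a b : Γ(X, U)} (h : a • e = b • e) : a = b :=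
  (he U le_rfl).1 (by
    show a • rm M le_rfl e = b • rm M le_rfl e
    rw [Amp.res_self]; exact h)

theorem gen_smul_iff_mem {U : X.Opens} {e : Γ(M, U)} (he : IsGenerator e) {x : X} (hx : x ∈ U) (a : Γ(X, U)) :
    Gen (gm M x hx (a • e)) ↔ x ∈ X.basicOpen a := by
  rw [gm_smul, (gen_of_isGenerator he hx).ne_zero_smul, Scheme.mem_basicOpen X a x hx]

theorem isGenerator_pullSec (i : Z ⟶ X) (hM : PicF.IsInvertible M) {U : X.Opens} {e : Γ(M, U)}
    (he : IsGenerator e) : IsGenerator (pullSec i M e) :=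
  RH26.isGenerator_of_gen fun _ hy => (gen_pullSec_iff i hM hy e).2 (gen_of_isGenerator he hy)

/-- Two sections over an open agreeing on a common locus have a common power. -/
theorem exists_pw_eq (hM : PicF.IsInvertible M) {O W : X.Opens} (hO : IsCompact (O : Set X)) (x y : Γ(M, O))
    {e : Γ(M, O)} (he : IsGenerator e) (hxy : ∀ (O' : X.Opens) (h : O' ≤ O), O' ≤ W → rm M h x = rm M h y)
    (hx : ∀ (z : X) (hz : z ∈ O), Gen (gm M z hz x) ↔ z ∈ W) (hy : ∀ (z : X) (hz : z ∈ O), Gen (gm M z hz y) ↔ z ∈ W) :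
    ∃ c, ∀ k, c < k → pw x k = pw y k := by
  obtain ⟨a, ha⟩ := exists_coeff he x
  obtain ⟨b, hb⟩ := exists_coeff he y
  have hDa : X.basicOpen a ≤ W := fun z hz => by
    have hzO := X.basicOpen_le a hz
    rw [← hx z hzO, ← ha, gen_smul_iff_mem he hzO]; exact hz
  have hDb : X.basicOpen b ≤ W := fun z hz => by
    have hzO := X.basicOpen_le b hz
    rw [← hy z hzO, ← hb, gen_smul_iff_mem he hzO]; exact hz
  have hres : ∀ (O' : X.Opens) (h : O' ≤ O), O' ≤ W → rf h (a - b) = 0 := fun O' h hW => by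
    rw [map_sub, sub_eq_zero]
    exact coeff_inj (isGenerator_res h he) (by rw [← res_smul', ← res_smul', ha, hb]; exact hxy O' h hW)
  obtain ⟨p, hp⟩ := exists_pow_mul_eq_zero_of_res_basicOpen_eq_zero_of_isCompact X hO (a - b) a
    (hres _ (X.basicOpen_le _) hDa)
  obtain ⟨q, hq⟩ := exists_pow_mul_eq_zero_of_res_basicOpen_eq_zero_of_isCompact X hO (a - b) b
    (hres _ (X.basicOpen_le _) hDb)
  refine ⟨2 * (p + q), fun k hk => ?_⟩
  rw [← ha, ← hb, pw_smul, pw_smul]
  congr 1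
  exact QAHomeo5.pow_eq_pow_of_mul_sub_eq_zero a b (p + q)
    (by rw [pow_add, mul_right_comm, hp, zero_mul]) (by rw [pow_add, mul_assoc, hq, mul_zero]) k hk

/-- A locus of the pullback lifts, after taking a power. -/
theorem exists_hasSec_lift (i : Z ⟶ X) [IsClosedImmersion i] [Surjective i] [CompactSpace X] [QuasiSeparatedSpace X]
    (hM : PicF.IsInvertible M) (s : Coh.structureModule Z ⟶ (Scheme.Modules.pullback i).obj M) {V : X.Opens}
    (hV : IsAffineOpen V) (eV : Γ(M, V)) (heV : IsGenerator eV) (hle : CohB1.genLocus _ s ≤ i ⁻¹ᵁ V) :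
    ∃ (k : ℕ) (W : X.Opens), HasSec M (k + 1) W ∧ i ⁻¹ᵁ W = CohB1.genLocus _ s := by
  classical
  have hinj : ∀ {O O' : X.Opens}, i ⁻¹ᵁ O = i ⁻¹ᵁ O' → O = O' := fun {O O'} h => by
    ext x
    obtain ⟨z, rfl⟩ := i.surjective x
    exact Iff.of_eq (congrArg (fun T : Z.Opens => z ∈ T) h)
  have hiM := PicLoc.isInvertible_pullback i hM
  let G := CohB1.genLocus _ s
  have hlift : ∀ (U : X.Opens) (e : Γ(M, U)), IsAffineOpen U → IsGenerator e → ∃ r : Γ(X, U),
      i.app U r • pullSec i M e = rm _ (le_top : i ⁻¹ᵁ U ≤ ⊤) (gval s) ∧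
        i ⁻¹ᵁ X.basicOpen r = G ⊓ i ⁻¹ᵁ U := by
    intro U e hU he
    have heZ := isGenerator_pullSec i hM he
    obtain ⟨a, ha⟩ := exists_coeff heZ (rm _ (le_top : i ⁻¹ᵁ U ≤ ⊤) (gval s))
    obtain ⟨r, rfl⟩ := i.app_surjective U hU a
    exact ⟨r, ha, (Scheme.preimage_basicOpen i r).trans (genLocus_inf_eq_basicOpen hiM s heZ ha).symm⟩
  obtain ⟨rV, hrV, hWG⟩ := hlift V eV hV heV
  let W := X.basicOpen rV
  have hW : i ⁻¹ᵁ W = G := hWG.trans (inf_eq_left.2 hle)
  let R : Γ(M, W) := rf (X.basicOpen_le rV) rV • rm M (X.basicOpen_le rV) eV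
  -- over a trivialising affine open
  have hloc : ∀ (U : X.Opens) (e : Γ(M, U)), IsAffineOpen U → IsGenerator e → ∃ N, ∀ n ≥ N,
      ∃ σ : Γ(CohB1.tensorPow M n, U),
        (∀ (O : X.Opens) (hO : O ≤ U) (hO' : O ≤ W), rm _ hO σ = rm _ hO' (pw R n)) ∧
        (0 < n → ∀ (z : X) (hz : z ∈ U), Gen (gm _ z hz σ) ↔ z ∈ W) := by
    intro U e hU he
    obtain ⟨r, hr, hrG⟩ := hlift U e hU he
    have hD : X.basicOpen r = U ⊓ W := hinj (by
      rw [hrG, inf_comm]; exact (congrArg (i ⁻¹ᵁ U ⊓ ·) hW).symm)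
    have hU' : X.basicOpen r ≤ U := X.basicOpen_le r
    have hW' : X.basicOpen r ≤ W := hD.le.trans inf_le_right
    letI : Algebra Γ(X, U) Γ(X, X.basicOpen r) := (rf hU').toAlgebra
    haveI : IsLocalization.Away r Γ(X, X.basicOpen r) := hU.isLocalization_basicOpen r
    obtain ⟨c, hc⟩ := exists_coeff (isGenerator_res hU' he) (rm M hW' R)
    have hnil : IsNilpotent (c - algebraMap Γ(X, U) Γ(X, X.basicOpen r) r) := by
      refine QAHomeo5.isNilpotent_of_basicOpen_eq_bot (hU.basicOpen r) _ (hinj ?_)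
      rw [Scheme.preimage_basicOpen, map_sub]
      have hps : ∀ {A B : X.Opens} (h : B ≤ A) (t : Γ(M, A)),
          pullSec i M (rm M h t) = rm _ (i.preimage_mono h) (pullSec i M t) := fun h t => M1.app_mres _ h t
      have happ : ∀ {A B : X.Opens} (h : B ≤ A) (t : Γ(X, A)),
          i.app B (rf h t) = Z.presheaf.map (homOfLE (i.preimage_mono h)).op (i.app A t) := fun h t =>
        ConcreteCategory.congr_hom (i.naturality (homOfLE h).op) t
      have key : ∀ {A : X.Opens} (hA : X.basicOpen r ≤ A) (rA : Γ(X, A)) (eA : Γ(M, A)),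
          i.app A rA • pullSec i M eA = rm _ (le_top : i ⁻¹ᵁ A ≤ ⊤) (gval s) →
          pullSec i M (rf hA rA • rm M hA eA) = rm _ (le_top : i ⁻¹ᵁ X.basicOpen r ≤ ⊤) (gval s) := by
        intro A hA rA eA h
        rw [← res_smul', hps, show pullSec i M (rA • eA) = i.app A rA • pullSec i M eA from
          M2.pullSec_smul i M rA eA, h, Amp.res_res]
      have h1 := key hU' r e hr
      have h2 : pullSec i M (c • rm M hU' e) = rm _ (le_top : i ⁻¹ᵁ X.basicOpen r ≤ ⊤) (gval s) := by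
        rw [hc]
        show pullSec i M (rm M hW' (rf (X.basicOpen_le rV) rV • rm M (X.basicOpen_le rV) eV)) = _
        rw [← res_smul', Amp.res_res, res_smul']
        exact key _ rV eV hrV
      rw [RingHom.algebraMap_toAlgebra, sub_eq_zero.2 (coeff_inj (isGenerator_pullSec i hM (isGenerator_res hU' he))
        (((M2.pullSec_smul i M c _).symm.trans (h2.trans h1.symm)).trans (M2.pullSec_smul i M _ _))),
        Scheme.basicOpen_zero]
      rfl
    obtain ⟨N, hN⟩ := QAHomeo5.exists_extend_pow r c hnil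
    refine ⟨N, fun n hn => ?_⟩
    obtain ⟨g, hg, hgn⟩ := hN n hn
    refine ⟨g • pw e n, fun O hO hO' => ?_, fun hn0 z hz => ?_⟩
    · have hOD : O ≤ X.basicOpen r := (le_inf hO hO').trans hD.ge
      have h1 : rm _ hU' (g • pw e n) = rm _ hW' (pw R n) := by
        rw [res_smul', res_pw, res_pw, ← hc, pw_smul]
        congr 1
      rw [← Amp.res_res hU' hOD, h1, Amp.res_res]
    · have hge : IsGenerator (pw e n) := RH26.isGenerator_of_gen fun y hy =>
        gen_pw hM hy e n (gen_of_isGenerator he hy)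
      rw [gen_smul_iff_mem hge hz, QAHomeo5.basicOpen_eq_of_isNilpotent_sub _ _ hgn, X.basicOpen_pow r hn0, hD]
      exact ⟨fun h => h.2, fun h => ⟨hz, h⟩⟩
  -- a finite cover
  choose U e hxU _ hUa he using fun x : X => exists_isGenerator hM (x := x) (V := ⊤) trivial
  obtain ⟨t, ht⟩ := isCompact_univ.elim_finite_subcover (fun x => (U x : Set X)) (fun x => (U x).2)
    (fun x _ => Set.mem_iUnion.2 ⟨x, hxU x⟩)
  choose N hN using fun x : t => hloc (U x) (e x) (hUa x) (he x)
  let n := Finset.univ.sup N + 1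
  choose σ hσ hσG using fun x : t => hN x n ((Finset.le_sup (Finset.mem_univ x)).trans (Nat.le_succ _))
  have hn0 : 0 < n := Nat.succ_pos _
  have hiMn := isInvertible_tensorPow hM n
  have hov : ∀ p : t × t, ∃ c, ∀ k, c < k →
      pw (rm _ (inf_le_left : U p.1 ⊓ U p.2 ≤ U p.1) (σ p.1)) k =
        pw (rm _ (inf_le_right : U p.1 ⊓ U p.2 ≤ U p.2) (σ p.2)) k := by
    intro p
    refine exists_pw_eq hiMn (W := W) (QuasiSeparatedSpace.inter_isCompact _ _ (U p.1).2 (hUa p.1).isCompact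
      (U p.2).2 (hUa p.2).isCompact) _ _
      (isGenerator_res inf_le_left (RH26.isGenerator_of_gen fun y hy =>
        gen_pw hM hy (e p.1) n (gen_of_isGenerator (he p.1) hy)))
      (fun O' h hW' => by rw [Amp.res_res, Amp.res_res, hσ p.1 O' _ hW', hσ p.2 O' _ hW'])
      (fun z hz => ?_) fun z hz => ?_
    · rw [gm_res inf_le_left hz]; exact hσG p.1 hn0 z hz.1
    · rw [gm_res inf_le_right hz]; exact hσG p.2 hn0 z hz.2
  choose c hc using hov
  let k := Finset.univ.sup c
  let T := CohB1.tensorPow (CohB1.tensorPow M n) (k + 1)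
  let sh : TopCat.Sheaf Ab X := ⟨T.presheaf, T.isSheaf⟩
  have hcov : (⊤ : X.Opens) ≤ iSup fun x : t => U x := fun x _ => by
    obtain ⟨y, hy, hxy⟩ := Set.mem_iUnion₂.1 (ht (Set.mem_univ x))
    exact Opens.mem_iSup.2 ⟨⟨y, hy⟩, hxy⟩
  obtain ⟨F, hF, -⟩ := sh.existsUnique_gluing' (fun x : t => U x) ⊤ (fun _ => homOfLE le_top) hcov
    (fun x => pw (σ x) (k + 1)) (fun x y => by
      show rm T (inf_le_left : U x ⊓ U y ≤ U x) (pw (σ x) (k + 1)) =
        rm T (inf_le_right : U x ⊓ U y ≤ U y) (pw (σ y) (k + 1))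
      rw [res_pw, res_pw]
      exact hc (x, y) _ (Nat.lt_succ_of_le (Finset.le_sup (Finset.mem_univ _))))
  have hloc' : CohB1.genLocus T (M1.secHom F) = W := by
    refine genLocus_eq_of_forall (isInvertible_tensorPow hiMn _) _ _ fun z => ?_
    rw [gval_secHom]
    obtain ⟨x, hx⟩ := Opens.mem_iSup.1 (hcov (trivial : z ∈ (⊤ : X.Opens)))
    have hFx : rm T (le_top : U x ≤ ⊤) F = pw (σ x) (k + 1) := hF x
    rw [← gm_res (le_top : (U x : X.Opens) ≤ ⊤) hx, hFx, gen_pw_succ hiMn hx]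
    exact hσG x hn0 z hx
  refine ⟨n * (k + 1) - 1, W, ?_, hW⟩
  rw [Nat.sub_add_cancel (Nat.mul_pos hn0 k.succ_pos)]
  exact HasSec.of_tensorPow ⟨M1.secHom F, hloc'⟩

/-- Ampleness along a surjective closed immersion. -/
theorem isAmple_pullback_iff (i : Z ⟶ X) [IsClosedImmersion i] [Surjective i] {L : X.Modules}
    (hL : PicF.IsInvertible L) : CohB1.IsAmple ((Scheme.Modules.pullback i).obj L) ↔ CohB1.IsAmple L := by
  have hh : IsHomeomorph i.base :=
    isHomeomorph_iff_isEmbedding_surjective.2 ⟨i.isClosedEmbedding.toIsEmbedding, i.surjective⟩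
  refine ⟨fun h => ?_, Amp.isAmple_pullback_of_isAffineHom i⟩
  haveI := h.2.1
  haveI := (hh.homeomorph i.base).compactSpace
  haveI := quasiSeparatedSpace_of_isAmple h
  haveI : QuasiSeparatedSpace X := (hh.homeomorph i.base).symm.isOpenEmbedding.quasiSeparatedSpace
  refine isAmple_of_basis hL fun x V' hx => ?_
  obtain ⟨z, rfl⟩ := i.surjective x
  obtain ⟨U, eU, hzU, hUV', hUa, heU⟩ := exists_isGenerator hL (x := i z) hx
  obtain ⟨n, G, ⟨s, hs⟩, hzG, hGU, -⟩ := exists_hasSec_le h (show z ∈ i ⁻¹ᵁ U from hzU)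
  have hgen : IsGenerator (pw eU (n + 1)) := RH26.isGenerator_of_gen fun y hy =>
    gen_pw hL hy eU (n + 1) (gen_of_isGenerator heU hy)
  have hs' : CohB1.genLocus _ (s ≫ (M2.pullTensorPowIso i L (n + 1)).inv) = G :=
    (Amp.genLocus_comp_iso (M2.pullTensorPowIso i L (n + 1)).symm s).trans hs
  obtain ⟨k, W, hW, hWG⟩ := exists_hasSec_lift i (isInvertible_tensorPow hL (n + 1))
    (s ≫ (M2.pullTensorPowIso i L (n + 1)).inv) hUa _ hgen (hs'.le.trans hGU)
  rw [hs'] at hWG
  refine ⟨(n + 1) * (k + 1) - 1, W, hW.of_tensorPow.of_eq (Nat.sub_add_cancel (Nat.mul_pos n.succ_pos k.succ_pos)).symm,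
    hWG.ge hzG, fun y hy => ?_⟩
  obtain ⟨y, rfl⟩ := i.surjective y
  exact hUV' (hGU (hWG.le hy : y ∈ G))

end Groth.Agent.AmpleHomeo5
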